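import Mathlib
import Groth.Prelude.Def_MoreMor
import Groth.Agent.EtFound.FieldExt
import Groth.Agent.EtFound.Descent
import Groth.Agent.MorLib.GeomPts
import Groth.Agent.AlgSpLib.EtLocalInst

universe u

open CategoryTheory CategoryTheory.Limits AlgebraicGeometry

namespace Groth.Agent.EtCount

variable {X Y : Scheme.{u}}

/-- lifts of a point with values in a field -/
abbrev Lifts (f : X ⟶ Y) {K : Type u} [Field K] (g : Spec (CommRingCat.of K) ⟶ Y) :=
  {a : Spec (CommRingCat.of K) ⟶ X // a ≫ f = g}

theorem specTo_apply {K : Type u} [Field K] {P : Scheme.{u}} (r : P)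
    (γ : P.residueField r ⟶ CommRingCat.of K) :
    ((Scheme.SpecToEquivOfField K P).symm ⟨r, γ⟩) (IsLocalRing.closedPoint K) = r := by
  let pt : ↥(Spec (CommRingCat.of K)) := IsLocalRing.closedPoint K
  show (Spec.map γ ≫ P.fromSpecResidueField r) pt = r
  rw [Scheme.Hom.comp_apply, Scheme.fromSpecResidueField_apply]

theorem section_ext {P : Scheme.{u}} {K : Type u} [Field K] [IsSepClosed K]
    (s : P ⟶ Spec (CommRingCat.of K)) [Etale s] {a b : Spec (CommRingCat.of K) ⟶ P}
    (ha : a ≫ s = 𝟙 _) (hb : b ≫ s = 𝟙 _)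
    (h : a (IsLocalRing.closedPoint K) = b (IsLocalRing.closedPoint K)) : a = b := by
  obtain ⟨⟨p, α⟩, rfl⟩ := (Scheme.SpecToEquivOfField K P).symm.surjective a
  obtain ⟨⟨q, β⟩, rfl⟩ := (Scheme.SpecToEquivOfField K P).symm.surjective b
  have h' : p = q := by rwa [specTo_apply, specTo_apply] at h
  subst h'
  obtain ⟨σ, hσ⟩ := Spec.map_surjective (P.fromSpecResidueField p ≫ s)
  have key : ∀ γ : P.residueField p ⟶ CommRingCat.of K,
      (Spec.map γ ≫ P.fromSpecResidueField p) ≫ s = 𝟙 _ → σ ≫ γ = 𝟙 _ := fun γ hγ => by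
    apply Spec.map_injective
    rw [Spec.map_comp, hσ, ← Category.assoc, hγ, Spec.map_id]
  have h1 := key α ha
  have h2 := key β hb
  have hsurj : Function.Surjective σ.hom := fun r =>
    ⟨α.hom r, RingHom.injective α.hom (congr(($h1).hom (α.hom r)))⟩
  have : α = β := by
    ext r
    obtain ⟨t, rfl⟩ := hsurj r
    exact (congr(($h1).hom t)).trans (congr(($h2).hom t)).symm
  rw [this]

theorem card_lifts_eq_card_pullback (f : X ⟶ Y) [Etale f] {K : Type u} [Field K] [IsSepClosed K]
    (g : Spec (CommRingCat.of K) ⟶ Y) :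
    ENat.card (Lifts f g) = ENat.card ↥(pullback f g) := by
  refine ENat.card_congr (Equiv.ofBijective
    (fun a => pullback.lift a.1 (𝟙 _) (by rw [a.2, Category.id_comp]) (IsLocalRing.closedPoint K)) ⟨?_, ?_⟩)
  · intro a b h
    have := section_ext (pullback.snd f g) (pullback.lift_snd _ _ _) (pullback.lift_snd _ _ _) h
    exact Subtype.ext ((pullback.lift_fst _ _ _).symm.trans
      ((congrArg (· ≫ pullback.fst f g) this).trans (pullback.lift_fst _ _ _)))
  · intro p
    obtain ⟨l, hl, hlp⟩ := Scheme.exists_fac_of_etale_of_isSepClosed (pullback.snd f g) (𝟙 _) p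
      (Subsingleton.elim _ _)
    refine ⟨⟨l ≫ pullback.fst f g, by rw [Category.assoc, pullback.condition, reassoc_of% hl]⟩, ?_⟩
    let pt : ↥(Spec (CommRingCat.of K)) := IsLocalRing.closedPoint K
    have hm : pullback.lift (l ≫ pullback.fst f g) (𝟙 _)
        (by rw [Category.assoc, pullback.condition, reassoc_of% hl, Category.id_comp]) = l :=
      pullback.hom_ext (pullback.lift_fst _ _ _) ((pullback.lift_snd _ _ _).trans hl.symm)
    exact (congrArg (fun m : Spec (CommRingCat.of K) ⟶ pullback f g => m pt) hm).trans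
      ((congrArg l (Subsingleton.elim pt default)).trans hlp)

theorem card_lifts_ext (f : X ⟶ Y) [Etale f] {k Ω : Type u} [Field k] [IsSepClosed k] [Field Ω]
    (ξ : Spec (CommRingCat.of k) ⟶ Y) (l : Spec (CommRingCat.of Ω) ⟶ Spec (CommRingCat.of k)) :
    ENat.card (Lifts f ξ) = ENat.card (Lifts f (l ≫ ξ)) := by
  refine ENat.card_congr (Equiv.ofBijective (fun a => ⟨l ≫ a.1, by rw [Category.assoc, a.2]⟩) ⟨?_, ?_⟩)
  · intro a b h
    obtain ⟨c, -, hc⟩ := Groth.Agent.EtFound.existsUnique_fac f ξ l (l ≫ a.1) (by rw [Category.assoc, a.2])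
    exact Subtype.ext ((hc _ ⟨a.2, rfl⟩).trans (hc _ ⟨b.2, (congrArg Subtype.val h).symm⟩).symm)
  · intro t
    obtain ⟨c, ⟨h1, h2⟩, -⟩ := Groth.Agent.EtFound.existsUnique_fac f ξ l t.1 t.2
    exact ⟨⟨c, h1⟩, Subtype.ext h2⟩

/-- the standard geometric point over a point -/
noncomputable def geomPt (y : Y) :
    Spec (CommRingCat.of (SeparableClosure (Y.residueField y))) ⟶ Y :=
  Spec.map (CommRingCat.ofHom (algebraMap (Y.residueField y) (SeparableClosure (Y.residueField y)))) ≫
    Y.fromSpecResidueField y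

theorem geomPt_apply (y : Y) (p : Spec (CommRingCat.of (SeparableClosure (Y.residueField y)))) :
    geomPt y p = y := by
  rw [geomPt, Scheme.Hom.comp_apply, Scheme.fromSpecResidueField_apply]

theorem card_geomFiber (f : X ⟶ Y) [Etale f] (y : Y) :
    ENat.card ↥(MoreMor.geomFiber f y) = ENat.card (Lifts f (geomPt y)) := by
  rw [card_lifts_eq_card_pullback]
  exact ENat.card_congr
    (pullbackLeftPullbackSndIso f (Y.fromSpecResidueField y) _).schemeIsoToHomeo.toEquiv

theorem card_lifts_of_point (f : X ⟶ Y) [Etale f] {K : Type u} [Field K] [IsSepClosed K]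
    (g : Spec (CommRingCat.of K) ⟶ Y) :
    ENat.card (Lifts f g) = ENat.card ↥(MoreMor.geomFiber f (g (IsLocalRing.closedPoint K))) := by
  obtain ⟨⟨y, α⟩, rfl⟩ := (Scheme.SpecToEquivOfField K Y).symm.surjective g
  have hy : ((Scheme.SpecToEquivOfField K Y).symm ⟨y, α⟩) (IsLocalRing.closedPoint K) = y :=
    specTo_apply y α
  rw [hy, card_geomFiber]
  let _ : Algebra (Y.residueField y) K := α.hom.toAlgebra
  let b : SeparableClosure (Y.residueField y) →ₐ[Y.residueField y] K := IsSepClosed.lift
  have : (Scheme.SpecToEquivOfField K Y).symm ⟨y, α⟩ =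
      Spec.map (CommRingCat.ofHom b.toRingHom) ≫ geomPt y := by
    rw [Scheme.SpecToEquivOfField_symm_apply, geomPt, ← Category.assoc, ← Spec.map_comp]
    congr 2
    ext1
    exact b.comp_algebraMap.symm
  rw [this, ← card_lifts_ext]

section off

variable (f : X ⟶ Y) [Etale f] [IsSeparated f]

/-- the complement of the diagonal -/
noncomputable def offDiag : (pullback f f).Opens :=
  ⟨(Set.range (pullback.diagonal f))ᶜ,
    (pullback.diagonal f).isClosedEmbedding.isClosed_range.isOpen_compl⟩

/-- the first projection away from the diagonal -/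
noncomputable abbrev offMap : (offDiag f).toScheme ⟶ X := (offDiag f).ι ≫ pullback.fst f f

instance : IsSeparated (offMap f) := inferInstance

theorem card_lifts_succ {K : Type u} [Field K] (a : Spec (CommRingCat.of K) ⟶ X) :
    ENat.card (Lifts f (a ≫ f)) = ENat.card (Lifts (offMap f) a) + 1 := by
  classical
  let a₀ : Lifts f (a ≫ f) := ⟨a, rfl⟩
  rw [← ENat.card_congr (Equiv.optionSubtypeNe a₀)]
  have hne : ∀ c : Lifts (offMap f) a, c.1 ≫ (offDiag f).ι ≫ pullback.snd f f ≠ a := by
    intro c hc
    have e : c.1 ≫ (offDiag f).ι = a ≫ pullback.diagonal f := pullback.hom_ext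
      (by rw [Category.assoc, c.2, Category.assoc, pullback.diagonal_fst, Category.comp_id])
      (by rw [Category.assoc, hc, Category.assoc, pullback.diagonal_snd, Category.comp_id])
    have hmem : (c.1 ≫ (offDiag f).ι) (IsLocalRing.closedPoint K) ∈ offDiag f :=
      (c.1 (IsLocalRing.closedPoint K)).2
    rw [e] at hmem
    exact hmem ⟨a (IsLocalRing.closedPoint K), rfl⟩
  have key : ENat.card (Lifts (offMap f) a) = ENat.card {b : Lifts f (a ≫ f) // b ≠ a₀} := by
    refine ENat.card_congr (Equiv.ofBijective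
      (fun c => ⟨⟨c.1 ≫ (offDiag f).ι ≫ pullback.snd f f, by
        have := congrArg (· ≫ f) c.2
        simp only [Category.assoc] at this ⊢
        rw [← pullback.condition]
        exact this⟩, fun h => hne c (congrArg Subtype.val h)⟩) ⟨?_, ?_⟩)
    · intro c d h
      have h' : c.1 ≫ (offDiag f).ι ≫ pullback.snd f f = d.1 ≫ (offDiag f).ι ≫ pullback.snd f f :=
        congrArg (fun z => z.1.1) h
      refine Subtype.ext ((cancel_mono (offDiag f).ι).1 (pullback.hom_ext ?_ (by simpa using h')))
      rw [Category.assoc, Category.assoc]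
      exact c.2.trans d.2.symm
    · rintro ⟨b, hb⟩
      let m := pullback.lift a b.1 b.2.symm
      have hr : Set.range m ⊆ Set.range (offDiag f).ι := by
        rintro _ ⟨p, rfl⟩
        rw [Scheme.Opens.range_ι]
        rintro ⟨x, hx⟩
        apply hb
        have hsub : Set.range m ⊆ Set.range (pullback.diagonal f) := by
          rintro _ ⟨q, rfl⟩
          exact ⟨x, hx.trans (congrArg m (Subsingleton.elim (α := PrimeSpectrum K) _ _))⟩
        let z := IsOpenImmersion.lift (pullback.diagonal f) m hsub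
        have hz : z ≫ pullback.diagonal f = m := IsOpenImmersion.lift_fac _ _ _
        refine Subtype.ext ?_
        calc b.1 = m ≫ pullback.snd f f := (pullback.lift_snd _ _ _).symm
          _ = m ≫ pullback.fst f f := by
              rw [← hz, Category.assoc, Category.assoc, pullback.diagonal_fst, pullback.diagonal_snd]
          _ = a := pullback.lift_fst _ _ _
      refine ⟨⟨IsOpenImmersion.lift (offDiag f).ι m hr, by
        rw [IsOpenImmersion.lift_fac_assoc]; exact pullback.lift_fst _ _ _⟩, ?_⟩
      refine Subtype.ext (Subtype.ext ?_)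
      show IsOpenImmersion.lift (offDiag f).ι m hr ≫ (offDiag f).ι ≫ pullback.snd f f = b.1
      rw [IsOpenImmersion.lift_fac_assoc]
      exact pullback.lift_snd _ _ _
  rw [key]
  simp [ENat.card, Cardinal.mk_option]

theorem card_geomFiber_succ (x : X) :
    ENat.card ↥(MoreMor.geomFiber f (f x)) = ENat.card ↥(MoreMor.geomFiber (offMap f) x) + 1 := by
  have h := card_lifts_succ f (geomPt x)
  rw [card_lifts_of_point, ← card_geomFiber] at h
  let pt : ↥(Spec (CommRingCat.of (SeparableClosure (X.residueField x)))) := IsLocalRing.closedPoint _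
  have e : (geomPt x ≫ f) pt = f x := (Scheme.Hom.comp_apply _ _ _).trans (congrArg f (geomPt_apply x pt))
  exact (congrArg (fun z => ENat.card ↥(MoreMor.geomFiber f z)) e).symm.trans h

theorem exists_of_one_le {y : Y} (h : 1 ≤ ENat.card ↥(MoreMor.geomFiber f y)) : ∃ x, f x = y := by
  rw [card_geomFiber] at h
  obtain ⟨a⟩ := (ENat.one_le_card_iff_nonempty _).1 h
  refine ⟨a.1 (IsLocalRing.closedPoint _), ?_⟩
  exact (congrArg (fun m => m (IsLocalRing.closedPoint _)) a.2).trans (geomPt_apply _ _)

/-- `S (n+1) f` is the image of `S n (offMap f)` -/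
theorem setOf_succ_le (n : ℕ) :
    {y : Y | ((n + 1 : ℕ) : ℕ∞) ≤ ENat.card ↥(MoreMor.geomFiber f y)} =
      f '' {x : X | (n : ℕ∞) ≤ ENat.card ↥(MoreMor.geomFiber (offMap f) x)} := by
  ext y
  constructor
  · intro h
    obtain ⟨x, rfl⟩ := exists_of_one_le f (le_trans (by exact_mod_cast Nat.le_add_left 1 n) h)
    refine ⟨x, ?_, rfl⟩
    rw [Set.mem_setOf_eq, card_geomFiber_succ, Nat.cast_add, Nat.cast_one] at h
    exact (ENat.add_le_add_iff_right ENat.one_ne_top).1 h
  · rintro ⟨x, hx, rfl⟩
    rw [Set.mem_setOf_eq, card_geomFiber_succ, Nat.cast_add, Nat.cast_one]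
    exact add_le_add hx le_rfl

end off

theorem isOpen_le_card (n : ℕ) : ∀ {X Y : Scheme.{u}} (f : X ⟶ Y) [Etale f] [IsSeparated f],
    IsOpen {y : Y | (n : ℕ∞) ≤ ENat.card ↥(MoreMor.geomFiber f y)} := by
  induction n with
  | zero => intro X Y f _ _; simp
  | succ n ih =>
    intro X Y f _ _
    rw [setOf_succ_le]
    exact f.isOpenMap _ (ih (offMap f))

theorem lowerSemicontinuous_card (f : X ⟶ Y) [Etale f] [IsSeparated f] :
    LowerSemicontinuous (fun y : Y => ENat.card ↥(MoreMor.geomFiber f y)) := by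
  rw [lowerSemicontinuous_iff_isOpen_preimage]
  intro a
  rcases eq_or_ne a ⊤ with rfl | ha
  · simp
  obtain ⟨n, rfl⟩ := ENat.ne_top_iff_exists.1 ha
  convert isOpen_le_card (n + 1) f using 1
  ext y
  simp [Nat.cast_add, ENat.add_one_le_iff]

theorem isClosed_le_card (n : ℕ) : ∀ {X Y : Scheme.{u}} (f : X ⟶ Y) [Etale f] [IsFinite f],
    IsClosed {y : Y | (n : ℕ∞) ≤ ENat.card ↥(MoreMor.geomFiber f y)} := by
  induction n with
  | zero => intro X Y f _ _; simp
  | succ n ih =>
    intro X Y f _ _
    rw [setOf_succ_le]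
    have : IsClosedImmersion (offDiag f).ι := .of_isPreimmersion _ (by
      rw [Scheme.Opens.range_ι]
      exact ((pullback.diagonal f).isOpenEmbedding.isOpen_range).isClosed_compl)
    exact f.isClosedMap _ (ih (offMap f))

theorem isFinite_of_card_eq (n : ℕ) : ∀ {X Y : Scheme.{u}} (f : X ⟶ Y) [Etale f] [IsSeparated f]
    [QuasiCompact f], (∀ y, ENat.card ↥(MoreMor.geomFiber f y) = n) → IsFinite f := by
  induction n with
  | zero =>
    intro X Y f _ _ _ h
    have : IsEmpty X := ⟨fun x => by
      have := h (f x)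
      rw [card_geomFiber_succ] at this
      simp at this⟩
    infer_instance
  | succ n ih =>
    intro X Y f _ _ _ h
    have : IsClosedImmersion (offDiag f).ι := .of_isPreimmersion _ (by
      rw [Scheme.Opens.range_ι]
      exact ((pullback.diagonal f).isOpenEmbedding.isOpen_range).isClosed_compl)
    have hfin : IsFinite (offMap f) := ih (offMap f) fun x => by
      have := h (f x)
      rw [card_geomFiber_succ, Nat.cast_add, Nat.cast_one] at this
      exact ENat.add_left_injective_of_ne_top ENat.one_ne_top this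
    have hs : Surjective f := ⟨fun y => exists_of_one_le f (by rw [h y]; exact_mod_cast Nat.le_add_left 1 n)⟩
    have hc : IsCompl (pullback.diagonal f).opensRange (offDiag f).ι.opensRange := by
      rw [Scheme.Opens.opensRange_ι]
      constructor
      · exact disjoint_iff.2 (TopologicalSpace.Opens.ext (Set.inter_compl_self _))
      · exact codisjoint_iff.2 (TopologicalSpace.Opens.ext (Set.union_compl_self _))
    obtain ⟨H⟩ := nonempty_isColimit_binaryCofanMk_of_isCompl _ _ hc
    have hid : IsFinite (𝟙 X) := inferInstance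
    have hp : IsFinite (pullback.fst f f) := by
      let e : pullback f f ≅ X ⨿ (offDiag f).toScheme := H.coconePointUniqueUpToIso (colimit.isColimit (pair X (offDiag f).toScheme))
      have hl : coprod.inl ≫ e.inv = pullback.diagonal f :=
        IsColimit.comp_coconePointUniqueUpToIso_inv H (colimit.isColimit _) ⟨WalkingPair.left⟩
      have hr : coprod.inr ≫ e.inv = (offDiag f).ι :=
        IsColimit.comp_coconePointUniqueUpToIso_inv H (colimit.isColimit _) ⟨WalkingPair.right⟩
      have he : e.inv ≫ pullback.fst f f = coprod.desc (𝟙 X) (offMap f) := by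
        refine coprod.hom_ext ?_ ?_
        · rw [coprod.inl_desc, ← Category.assoc, hl, pullback.diagonal_fst]
        · rw [coprod.inr_desc, ← Category.assoc, hr]
      have : pullback.fst f f = e.hom ≫ coprod.desc (𝟙 X) (offMap f) := by
        rw [← he, e.hom_inv_id_assoc]
      rw [this]
      infer_instance
    exact Groth.Agent.EtFound.fpqc_isFinite.of_isPullback (IsPullback.of_hasPullback f f)
      ⟨⟨hs, inferInstance⟩, inferInstance⟩ hp

theorem finite_geomFiber (f : X ⟶ Y) [Etale f] [QuasiCompact f] (y : Y) :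
    Finite ↥(MoreMor.geomFiber f y) := by
  have := Groth.Agent.MorLib.GP.discreteTopology_geomFiber f y
  have : QuasiCompact (f.fiberToSpecResidueField y) :=
    inferInstanceAs (QuasiCompact (pullback.snd f (Y.fromSpecResidueField y)))
  let g : Spec (CommRingCat.of (SeparableClosure (Y.residueField y))) ⟶ Spec (Y.residueField y) :=
    Spec.map (CommRingCat.ofHom (algebraMap (Y.residueField y) (SeparableClosure (Y.residueField y))))
  let q : MoreMor.geomFiber f y ⟶ Spec (CommRingCat.of (SeparableClosure (Y.residueField y))) :=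
    pullback.snd (f.fiberToSpecResidueField y) g
  have hq : QuasiCompact q :=
    quasiCompact_isStableUnderBaseChange.of_isPullback (IsPullback.of_hasPullback (f.fiberToSpecResidueField y) g) this
  have : CompactSpace ↥(MoreMor.geomFiber f y) := QuasiCompact.compactSpace_of_compactSpace q
  exact finite_of_compact_of_discrete

theorem isFinite_iff_card_const [ConnectedSpace ↥Y] (f : X ⟶ Y) [Etale f] [IsSeparated f]
    [QuasiCompact f] :
    IsFinite f ↔ ∃ n : ℕ∞, ∀ y : Y, ENat.card ↥(MoreMor.geomFiber f y) = n := by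
  constructor
  · intro _
    obtain ⟨y₀⟩ := (inferInstance : Nonempty ↥Y)
    refine ⟨ENat.card ↥(MoreMor.geomFiber f y₀), fun y => ?_⟩
    have key : ∀ a b : Y, ENat.card ↥(MoreMor.geomFiber f a) ≤ ENat.card ↥(MoreMor.geomFiber f b) := by
      intro a b
      refine ENat.forall_natCast_le_iff_le.1 fun m hm => ?_
      have := IsClopen.eq_univ (s := {z : Y | (m : ℕ∞) ≤ ENat.card ↥(MoreMor.geomFiber f z)})
        ⟨isClosed_le_card m f, isOpen_le_card m f⟩ ⟨a, hm⟩
      exact this.ge (Set.mem_univ b)
    exact le_antisymm (key _ _) (key _ _)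
  · rintro ⟨n, hn⟩
    obtain ⟨y₀⟩ := (inferInstance : Nonempty ↥Y)
    have := finite_geomFiber f y₀
    obtain ⟨m, rfl⟩ := ENat.ne_top_iff_exists.1 (show n ≠ ⊤ from hn y₀ ▸ ENat.card_lt_top.2 this |>.ne)
    exact isFinite_of_card_eq m f hn

end Groth.Agent.EtCount
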